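import Cfsg.Agent.H410.OZ.Geo

/-!
# S4842: tori of `GL(E)` in classical groups (helper410)

`L` a field extension of `F` of degree `i + 1` with a basis `β` indexed by the `k ≤ i`.
* `gl β z` : the isometry which acts on `E ≅ L` as multiplication by `z`, on the opposite subspace (the dual of `L`) as
  the inverse of its transpose and trivially on `Mid Fr i`;
* `ell_gl` : the elements `gl β z * D` are elliptic;
* `not_isConj_gl` : a criterion for non-conjugacy.
-/

set_option autoImplicit false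
set_option linter.unusedSectionVars false

namespace Cfsg.Agent.H410.OZ

open CoxeterSystem Cfsg.Agent.ChevalleyStructure.CoxeterGeom Cfsg.Agent.Tits.Roots Cfsg.Agent.Nodes.TypeC
open Cfsg.Agent.Nodes Cfsg.Agent.Nodes.Comb Cfsg.Agent.Nodes.Reps Cfsg.Agent.Nodes.WittRoot Cfsg.Agent.Nodes.BNOf
open Cfsg.Agent.Nodes.WittRGD Cfsg.Agent.Nodes.RGDLib Cfsg.Agent.Nodes.WittAll
open Cfsg.Agent.TitsThree Cfsg.Agent.TitsThree.Siegel Cfsg.Agent.TitsThree.WittFrame
  Cfsg.Agent.TitsThree.WittWeyl Cfsg.Agent.TitsThree.FrameCN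
open Cfsg.Agent.Nodes.StabComb Cfsg.Agent.Nodes.Bruhat Cfsg.Agent.Nodes.LeviDec
open Cfsg.Agent.H62.PCFrame Cfsg.Agent.H62.PCWitt Cfsg.Agent.H985.VZ Module

section Frame

variable {F : Type*} [Field F] {V : Type*} [AddCommGroup V] [Module F V] {H : HForm F V} {n : ℕ}
  (Fr : Frame H (Fin n)) {i : Fin n} {L : Type*} [Field L] [Algebra F L] (β : Basis {k : Fin n // k ≤ i} F L)

/-- `L ≅ E` -/
noncomputable def eE : L →ₗ[F] V where
  toFun x := ∑ k, β.repr x k • Fr.b (k.1, true)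
  map_add' x y := by simp only [map_add, Finsupp.add_apply, add_smul, Finset.sum_add_distrib]
  map_smul' c x := by
    simp only [map_smul, Finsupp.smul_apply, smul_eq_mul, mul_smul, Finset.smul_sum, RingHom.id_apply]

/-- `Dual L ≅` the opposite subspace -/
noncomputable def fF : Dual F L →ₗ[F] V where
  toFun l := ∑ k, l (β k) • Fr.b (k.1, false)
  map_add' x y := by simp only [LinearMap.add_apply, add_smul, Finset.sum_add_distrib]
  map_smul' c x := by
    simp only [LinearMap.smul_apply, smul_eq_mul, mul_smul, Finset.smul_sum, RingHom.id_apply]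

/-- the component in `E` -/
noncomputable def xc : V →ₗ[F] L where
  toFun v := ∑ k, H.h v (Fr.b (k.1, false)) • β k
  map_add' x y := by simp only [H.add_left, add_smul, Finset.sum_add_distrib]
  map_smul' c x := by simp only [H.smul_left, mul_smul, Finset.smul_sum, RingHom.id_apply]

/-- the component in the opposite subspace -/
noncomputable def lc : V →ₗ[F] Dual F L where
  toFun v := ∑ k, (H.ε⁻¹ * H.h v (Fr.b (k.1, true))) • β.coord k
  map_add' x y := by simp only [H.add_left, mul_add, add_smul, Finset.sum_add_distrib]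
  map_smul' c x := by
    simp only [H.smul_left, Finset.smul_sum, RingHom.id_apply, smul_smul]
    refine Finset.sum_congr rfl fun k _ => ?_
    congr 1
    ring

variable {Fr} {β}

theorem eE_apply (x : L) : eE Fr β x = ∑ k, β.repr x k • Fr.b (k.1, true) := rfl

theorem fF_apply (l : Dual F L) : fF Fr β l = ∑ k, l (β k) • Fr.b (k.1, false) := rfl

theorem xc_apply (v : V) : xc Fr β v = ∑ k, H.h v (Fr.b (k.1, false)) • β k := rfl

theorem lc_apply (v : V) (y : L) : lc Fr β v y = ∑ k, H.ε⁻¹ * H.h v (Fr.b (k.1, true)) * β.repr y k := by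
  change (∑ k, (H.ε⁻¹ * H.h v (Fr.b (k.1, true))) • β.coord k) y = _
  rw [LinearMap.sum_apply]
  rfl

theorem h_sum_left {κ : Type*} [Fintype κ] (c : κ → F) (u : κ → V) (w : V) :
    H.h (∑ k, c k • u k) w = ∑ k, c k * H.h (u k) w := by
  classical
  have key : ∀ s : Finset κ, H.h (∑ k ∈ s, c k • u k) w = ∑ k ∈ s, c k * H.h (u k) w := by
    intro s
    induction s using Finset.induction_on with
    | empty => simp [H.zero_left]
    | insert j s hj ih => rw [Finset.sum_insert hj, Finset.sum_insert hj, H.add_left, H.smul_left, ih]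
  exact key _

theorem h_sum_right {κ : Type*} [Fintype κ] (c : κ → F) (u : κ → V) (w : V) :
    H.h w (∑ k, c k • u k) = ∑ k, H.σ (c k) * H.h w (u k) := by
  classical
  have key : ∀ s : Finset κ, H.h w (∑ k ∈ s, c k • u k) = ∑ k ∈ s, H.σ (c k) * H.h w (u k) := by
    intro s
    induction s using Finset.induction_on with
    | empty => simp [H.zero_right]
    | insert j s hj ih => rw [Finset.sum_insert hj, Finset.sum_insert hj, H.add_right, H.smul_right, ih]
  exact key _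

theorem h_eE_false (x : L) (k : {k : Fin n // k ≤ i}) : H.h (eE Fr β x) (Fr.b (k.1, false)) = β.repr x k := by
  rw [eE_apply, h_sum_left, Finset.sum_eq_single k]
  · rw [Fr.hb]; simp
  · intro j _ hj
    rw [Fr.hb, if_neg, mul_zero]
    rintro ⟨h1, -⟩
    exact hj (Subtype.ext h1)
  · intro h; exact absurd (Finset.mem_univ _) h

theorem h_eE_true (x : L) (k : Fin n) : H.h (eE Fr β x) (Fr.b (k, true)) = 0 := by
  rw [eE_apply, h_sum_left]
  refine Finset.sum_eq_zero fun j _ => ?_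
  rw [Fr.hb]; simp

theorem h_fF_true (l : Dual F L) (k : {k : Fin n // k ≤ i}) : H.h (fF Fr β l) (Fr.b (k.1, true)) = H.ε * l (β k) := by
  rw [fF_apply, h_sum_left, Finset.sum_eq_single k]
  · rw [Fr.hb]; simp [mul_comm]
  · intro j _ hj
    rw [Fr.hb, if_neg, mul_zero]
    rintro ⟨h1, -⟩
    exact hj (Subtype.ext h1)
  · intro h; exact absurd (Finset.mem_univ _) h

theorem h_fF_false (l : Dual F L) (k : Fin n) : H.h (fF Fr β l) (Fr.b (k, false)) = 0 := by
  rw [fF_apply, h_sum_left]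
  refine Finset.sum_eq_zero fun j _ => ?_
  rw [Fr.hb]; simp

theorem xc_eE (x : L) : xc Fr β (eE Fr β x) = x := by
  rw [xc_apply]
  simp only [h_eE_false]
  exact β.sum_repr x

theorem xc_fF (l : Dual F L) : xc Fr β (fF Fr β l) = 0 := by
  rw [xc_apply]
  simp only [h_fF_false, zero_smul, Finset.sum_const_zero]

theorem lc_eE (x : L) : lc Fr β (eE Fr β x) = 0 := by
  ext y
  rw [lc_apply]
  simp only [h_eE_true, mul_zero, zero_mul, Finset.sum_const_zero, LinearMap.zero_apply]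

theorem lc_fF (l : Dual F L) : lc Fr β (fF Fr β l) = l := by
  ext y
  rw [lc_apply]
  simp only [h_fF_true]
  have h3 := H.ε_ne
  conv_rhs => rw [← β.sum_repr y]
  rw [map_sum]
  refine Finset.sum_congr rfl fun k _ => ?_
  rw [map_smul, smul_eq_mul, ← mul_assoc, inv_mul_cancel₀ h3, one_mul, mul_comm]

theorem eE_mem (x : L) : eE Fr β x ∈ RS Fr (Si i) := by
  rw [eE_apply]
  exact Submodule.sum_mem _ fun k _ => Submodule.smul_mem _ _
    (b_mem (show ((k.1, true) : Fin n × Bool) ∈ Si i from ⟨k.2, rfl⟩))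

theorem fF_mem (l : Dual F L) : fF Fr β l ∈ RS Fr (Ni i) := by
  rw [fF_apply]
  exact Submodule.sum_mem _ fun k _ => Submodule.smul_mem _ _
    (b_mem (show ((k.1, false) : Fin n × Bool) ∈ Ni i from ⟨k.2, rfl⟩))

theorem eE_basis (k : {k : Fin n // k ≤ i}) : eE Fr β (β k) = Fr.b (k.1, true) := by
  rw [eE_apply, Finset.sum_eq_single k]
  · simp
  · intro j _ hj
    simp [Ne.symm hj]
  · intro h; exact absurd (Finset.mem_univ _) h

theorem fF_basis (k : {k : Fin n // k ≤ i}) : fF Fr β (β.coord k) = Fr.b (k.1, false) := by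
  rw [fF_apply, Finset.sum_eq_single k]
  · simp
  · intro j _ hj
    simp [hj]
  · intro h; exact absurd (Finset.mem_univ _) h

variable (β) in
theorem exists_eE {v : V} (hv : v ∈ RS Fr (Si i)) : ∃ x, eE Fr β x = v := by
  have : RS Fr (Si i) ≤ LinearMap.range (eE Fr β) := by
    refine Submodule.span_le.2 ?_
    rintro _ ⟨a, ⟨ha, hat⟩, rfl⟩
    refine ⟨β ⟨a.1, ha⟩, ?_⟩
    rw [eE_basis]
    congr 1
    exact Prod.ext rfl hat.symm
  exact this hv

variable (β) in
theorem exists_fF {v : V} (hv : v ∈ RS Fr (Ni i)) : ∃ l, fF Fr β l = v := by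
  have : RS Fr (Ni i) ≤ LinearMap.range (fF Fr β) := by
    refine Submodule.span_le.2 ?_
    rintro _ ⟨a, ⟨ha, hat⟩, rfl⟩
    refine ⟨β.coord ⟨a.1, ha⟩, ?_⟩
    rw [fF_basis]
    congr 1
    exact Prod.ext rfl hat.symm
  exact this hv

theorem eE_injective : Function.Injective (eE Fr β) := fun x y e => by
  have := congrArg (xc Fr β) e
  rwa [xc_eE, xc_eE] at this

theorem fF_injective : Function.Injective (fF Fr β) := fun x y e => by
  have := congrArg (lc Fr β) e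
  rwa [lc_fF, lc_fF] at this

theorem xc_Mid {v : V} (hv : v ∈ Mid Fr i) : xc Fr β v = 0 := by
  rw [xc_apply]
  refine Finset.sum_eq_zero fun k _ => ?_
  rw [hv k.1 k.2 false, zero_smul]

theorem lc_Mid {v : V} (hv : v ∈ Mid Fr i) : lc Fr β v = 0 := by
  ext y
  rw [lc_apply]
  refine Finset.sum_eq_zero fun k _ => ?_
  rw [hv k.1 k.2 true, mul_zero, zero_mul]

variable (Fr) (β)

/-- multiplication by `z`, dually -/
noncomputable def dl (z : L) (l : Dual F L) : Dual F L := l ∘ₗ LinearMap.mulLeft F z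

/-- the torus element as a linear map -/
noncomputable def glM (z : Lˣ) : V →ₗ[F] V where
  toFun v := v + eE Fr β (((z : L) - 1) * xc Fr β v) + fF Fr β (dl ((z⁻¹ : Lˣ) : L) (lc Fr β v) - lc Fr β v)
  map_add' v w := by
    have e : dl ((z⁻¹ : Lˣ) : L) (lc Fr β (v + w)) = dl ((z⁻¹ : Lˣ) : L) (lc Fr β v) + dl ((z⁻¹ : Lˣ) : L) (lc Fr β w) := by
      rw [map_add]; rfl
    rw [e, map_add (xc Fr β), map_add (lc Fr β), mul_add, map_add]
    have e2 : ∀ a b c d : Dual F L, a + b - (c + d) = (a - c) + (b - d) := fun a b c d => by abel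
    rw [e2, map_add]
    abel
  map_smul' c v := by
    have e : dl ((z⁻¹ : Lˣ) : L) (lc Fr β (c • v)) = c • dl ((z⁻¹ : Lˣ) : L) (lc Fr β v) := by
      rw [map_smul]; rfl
    have e2 : ∀ a b : Dual F L, c • a - c • b = c • (a - b) := fun a b => by
      ext y
      simp [mul_sub]
    rw [e, map_smul (xc Fr β), map_smul (lc Fr β), mul_smul_comm, map_smul, e2, map_smul, RingHom.id_apply,
      smul_add, smul_add]

variable {Fr} {β}

theorem glM_apply (z : Lˣ) (v : V) : glM Fr β z v =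
    v + eE Fr β (((z : L) - 1) * xc Fr β v) + fF Fr β (dl ((z⁻¹ : Lˣ) : L) (lc Fr β v) - lc Fr β v) := rfl

theorem dl_dl (z w : L) (l : Dual F L) : dl z (dl w l) = dl (w * z) l := by
  ext y
  simp [dl]

theorem dl_one (l : Dual F L) : dl 1 l = l := by
  ext y
  simp [dl]

theorem xc_glM (z : Lˣ) (v : V) : xc Fr β (glM Fr β z v) = z * xc Fr β v := by
  rw [glM_apply, map_add, map_add, xc_eE, xc_fF]
  ring

theorem lc_glM (z : Lˣ) (v : V) : lc Fr β (glM Fr β z v) = dl ((z⁻¹ : Lˣ) : L) (lc Fr β v) := by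
  rw [glM_apply, map_add, map_add, lc_eE, lc_fF]
  abel

theorem glM_mul (z w : Lˣ) (v : V) : glM Fr β z (glM Fr β w v) = glM Fr β (z * w) v := by
  have h1 : glM Fr β z (glM Fr β w v) = glM Fr β w v + eE Fr β (((z : L) - 1) * ((w : L) * xc Fr β v)) +
      fF Fr β (dl ((z⁻¹ : Lˣ) : L) (dl ((w⁻¹ : Lˣ) : L) (lc Fr β v)) - dl ((w⁻¹ : Lˣ) : L) (lc Fr β v)) := by
    rw [glM_apply z, xc_glM, lc_glM]
  rw [h1, glM_apply w, glM_apply (z * w), dl_dl]
  have h2 : ((w⁻¹ : Lˣ) : L) * ((z⁻¹ : Lˣ) : L) = (((z * w)⁻¹ : Lˣ) : L) := by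
    rw [mul_inv_rev, Units.val_mul]
  have h3 : (((z * w : Lˣ) : L) - 1) * xc Fr β v = ((w : L) - 1) * xc Fr β v + ((z : L) - 1) * ((w : L) * xc Fr β v) := by
    rw [Units.val_mul]; ring
  have h4 : dl (((z * w)⁻¹ : Lˣ) : L) (lc Fr β v) - lc Fr β v =
      (dl ((w⁻¹ : Lˣ) : L) (lc Fr β v) - lc Fr β v) +
        (dl (((z * w)⁻¹ : Lˣ) : L) (lc Fr β v) - dl ((w⁻¹ : Lˣ) : L) (lc Fr β v)) := by abel
  rw [h2, h3, h4, map_add (eE Fr β), map_add (fF Fr β)]
  abel

theorem glM_one (v : V) : glM Fr β 1 v = v := by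
  rw [glM_apply, inv_one, Units.val_one, sub_self, zero_mul, map_zero, dl_one, sub_self, map_zero, add_zero,
    add_zero]

variable (Fr) (β)

/-- **the torus** -/
noncomputable def gl : Lˣ →* (V ≃ₗ[F] V) where
  toFun z := LinearEquiv.ofLinearMap (glM Fr β z) (glM Fr β z⁻¹)
    (by
      ext v
      show glM Fr β z (glM Fr β z⁻¹ v) = v
      rw [glM_mul, mul_inv_cancel]
      exact glM_one v)
    (by
      ext v
      show glM Fr β z⁻¹ (glM Fr β z v) = v
      rw [glM_mul, inv_mul_cancel]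
      exact glM_one v)
  map_one' := by
    ext v
    exact glM_one v
  map_mul' z w := by
    ext v
    exact (glM_mul z w v).symm

variable {Fr} {β}

theorem gl_apply (z : Lˣ) (v : V) : gl Fr β z v = glM Fr β z v := rfl

theorem gl_eE (z : Lˣ) (x : L) : gl Fr β z (eE Fr β x) = eE Fr β (z * x) := by
  rw [gl_apply, glM_apply, xc_eE, lc_eE]
  have : dl ((z⁻¹ : Lˣ) : L) (0 : Dual F L) = 0 := rfl
  rw [this, sub_zero, map_zero, add_zero, ← map_add]
  congr 1
  ring

theorem gl_fF (z : Lˣ) (l : Dual F L) : gl Fr β z (fF Fr β l) = fF Fr β (dl ((z⁻¹ : Lˣ) : L) l) := by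
  rw [gl_apply, glM_apply, xc_fF, lc_fF, mul_zero, map_zero, add_zero, ← map_add]
  congr 1
  abel

theorem gl_Mid (z : Lˣ) {v : V} (hv : v ∈ Mid Fr i) : gl Fr β z v = v := by
  rw [gl_apply, glM_apply, xc_Mid hv, lc_Mid hv]
  have : dl ((z⁻¹ : Lˣ) : L) (0 : Dual F L) = 0 := rfl
  rw [this, sub_zero, mul_zero, map_zero, map_zero, add_zero, add_zero]

theorem h_eE_left (hσ : ∀ a, H.σ a = a) (x : L) (v : V) : H.h (eE Fr β x) v = lc Fr β v x := by
  have h2 : H.ε * H.ε = 1 := by have := H.ε_mul; rwa [hσ] at this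
  have h3 : H.ε⁻¹ = H.ε := inv_eq_of_mul_eq_one_right h2
  rw [eE_apply, h_sum_left, lc_apply]
  refine Finset.sum_congr rfl fun k _ => ?_
  rw [H.swap v (Fr.b (k.1, true)), hσ, h3]
  ring

theorem h_fF_left (hσ : ∀ a, H.σ a = a) (l : Dual F L) (v : V) : H.h (fF Fr β l) v = H.ε * l (xc Fr β v) := by
  rw [fF_apply, h_sum_left, xc_apply, map_sum, Finset.mul_sum]
  refine Finset.sum_congr rfl fun k _ => ?_
  rw [map_smul, smul_eq_mul, H.swap v (Fr.b (k.1, false)), hσ]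
  ring

theorem isIso_gl (hσ : ∀ a, H.σ a = a) (z : Lˣ) : H.IsIso (gl Fr β z) := by
  intro v w
  have h2 : H.ε * H.ε = 1 := by have := H.ε_mul; rwa [hσ] at this
  have hr : ∀ (v : V) (x : L), H.h v (eE Fr β x) = H.ε * lc Fr β v x := fun v x => by
    rw [H.swap (eE Fr β x) v, hσ, h_eE_left hσ]
  have hr' : ∀ (v : V) (l : Dual F L), H.h v (fF Fr β l) = l (xc Fr β v) := fun v l => by
    rw [H.swap (fF Fr β l) v, hσ, h_fF_left hσ, ← mul_assoc, h2, one_mul]
  have hz : ((z⁻¹ : Lˣ) : L) * (z : L) = 1 := by rw [← Units.val_mul, inv_mul_cancel, Units.val_one]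
  have hzz : ∀ x : L, ((z⁻¹ : Lˣ) : L) * (((z : L) - 1) * x) = x - ((z⁻¹ : Lˣ) : L) * x := fun x => by
    rw [← mul_assoc, mul_sub, hz]; ring
  rw [gl_apply, gl_apply, glM_apply, glM_apply]
  simp only [H.add_left, H.add_right, h_eE_left hσ, h_fF_left hσ, hr, hr', lc_eE, lc_fF, xc_eE, xc_fF,
    LinearMap.zero_apply, mul_zero, map_zero, add_zero, LinearMap.sub_apply, dl, LinearMap.comp_apply,
    LinearMap.mulLeft_apply, hzz]
  simp only [map_sub]
  ring

end Frame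

/-! ### Polynomials -/

section Poly

open Polynomial

variable {F : Type*} [Field F] {V V' : Type*} [AddCommGroup V] [Module F V] [AddCommGroup V'] [Module F V']

theorem aeval_comm (f : V →ₗ[F] V') (A : Module.End F V) (B : Module.End F V') (U : Submodule F V)
    (hU : ∀ v ∈ U, A v ∈ U) (h : ∀ v ∈ U, f (A v) = B (f v)) (P : F[X]) :
    ∀ v ∈ U, f (aeval A P v) = aeval B P (f v) := by
  have hp : ∀ (m : ℕ), ∀ v ∈ U, (A ^ m) v ∈ U ∧ f ((A ^ m) v) = (B ^ m) (f v) := by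
    intro m
    induction m with
    | zero => exact fun v hv => ⟨hv, rfl⟩
    | succ m ih =>
      intro v hv
      have h1 := ih (A v) (hU v hv)
      have e1 : (A ^ (m + 1)) v = (A ^ m) (A v) := by rw [pow_succ]; rfl
      have e2 : (B ^ (m + 1)) (f v) = (B ^ m) (B (f v)) := by rw [pow_succ]; rfl
      rw [e1, e2, ← h v hv]
      exact h1
  induction P using Polynomial.induction_on' with
  | add P Q hP hQ =>
    intro v hv
    rw [map_add, map_add, LinearMap.add_apply, map_add, LinearMap.add_apply, hP v hv, hQ v hv]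
  | monomial m a =>
    intro v hv
    rw [aeval_monomial, aeval_monomial]
    simp only [Module.End.mul_apply, Module.algebraMap_end_apply]
    rw [map_smul, (hp m v hv).2]

variable {L : Type*} [Field L] [Algebra F L]

theorem aeval_mulLeft (w : L) (P : F[X]) (x : L) : aeval (LinearMap.mulLeft F w) P x = aeval w P * x := by
  have h1 : (Algebra.lmul F L) w = LinearMap.mulLeft F w := rfl
  rw [← h1, aeval_algHom_apply]
  rfl

/-- the dual action -/
noncomputable def dlL (w : L) : Module.End F (Dual F L) where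
  toFun l := dl w l
  map_add' _ _ := rfl
  map_smul' _ _ := rfl

theorem aeval_dlL (w : L) (P : F[X]) (l : Dual F L) : aeval (dlL w) P l = dl (aeval w P) l := by
  have hp : ∀ (m : ℕ), ∀ l : Dual F L, ((dlL w) ^ m) l = dl (w ^ m) l := by
    intro m
    induction m with
    | zero =>
      intro l
      rw [pow_zero, pow_zero, dl_one]
      rfl
    | succ m ih =>
      intro l
      have e1 : ((dlL w) ^ (m + 1)) l = ((dlL w) ^ m) (dlL w l) := by rw [pow_succ]; rfl
      rw [e1, ih, pow_succ]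
      change dl (w ^ m) (dl w l) = _
      rw [dl_dl, mul_comm]
  induction P using Polynomial.induction_on' with
  | add P Q hP hQ =>
    rw [map_add, LinearMap.add_apply, hP, hQ, map_add]
    ext y
    simp [dl, add_mul]
  | monomial m a =>
    rw [aeval_monomial, aeval_monomial]
    simp only [Module.End.mul_apply, Module.algebraMap_end_apply]
    rw [hp]
    ext y
    simp [dl, ← Algebra.smul_def]

/-- a linear map with all vectors as eigenvectors is a scalar -/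
theorem exists_scalar {g : V →ₗ[F] V} (hg : ∀ v, ∃ a : F, g v = a • v) : ∃ c : F, ∀ v, g v = c • v := by
  by_cases hV : ∀ v : V, v = 0
  · exact ⟨1, fun v => by rw [hV v]; simp⟩
  push Not at hV
  obtain ⟨x, hx0⟩ := hV
  obtain ⟨c, hc⟩ := hg x
  refine ⟨c, fun v => ?_⟩
  obtain ⟨a, ha⟩ := hg v
  by_cases hv : ∃ e : F, v = e • x
  · obtain ⟨e, rfl⟩ := hv
    rw [map_smul, hc, smul_comm]
  · obtain ⟨b, hb⟩ := hg (v + x)
    rw [map_add, hc, ha, smul_add] at hb
    have h1 : (a - b) • v = (b - c) • x := by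
      rw [sub_smul, sub_smul]
      have := sub_eq_zero.2 hb
      rw [← sub_eq_zero, ← this]
      abel
    by_cases hab : a = b
    · subst hab
      rw [sub_self, zero_smul] at h1
      have h2 : a - c = 0 := (smul_eq_zero.1 h1.symm).resolve_right hx0
      rw [ha, sub_eq_zero.1 h2]
    · exfalso
      apply hv
      refine ⟨(a - b)⁻¹ * (b - c), ?_⟩
      rw [mul_smul, ← h1, smul_smul, inv_mul_cancel₀ (sub_ne_zero.2 hab), one_smul]

end Poly

section Model

open Polynomial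

variable {F : Type*} [Field F] {V : Type*} [AddCommGroup V] [Module F V] {H : HForm F V} {n : ℕ}
  {Fr : Frame H (Fin n)} {K : Type*} [Group K] {M : Model Fr K}
  {i : Fin n} {L : Type*} [Field L] [Algebra F L] {β : Basis {k : Fin n // k ≤ i} F L}

/-- the second factor of the elements -/
structure Comp (Fr : Frame H (Fin n)) (i : Fin n) (s : ℕ) (D : V ≃ₗ[F] V) : Prop where
  iso : H.IsIso D
  fix : ∀ k ≤ i, ∀ b, D (Fr.b (k, b)) = Fr.b (k, b)
  pow : ∀ v ∈ Mid Fr i, (D ^ s) v = v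

theorem Comp.eE {s : ℕ} {D : V ≃ₗ[F] V} (hD : Comp Fr i s D) (x : L) : D (eE Fr β x) = OZ.eE Fr β x := by
  rw [eE_apply, map_sum]
  refine Finset.sum_congr rfl fun k _ => ?_
  rw [map_smul, hD.fix k.1 k.2]

theorem Comp.fF {s : ℕ} {D : V ≃ₗ[F] V} (hD : Comp Fr i s D) (l : Dual F L) : D (fF Fr β l) = OZ.fF Fr β l := by
  rw [fF_apply, map_sum]
  refine Finset.sum_congr rfl fun k _ => ?_
  rw [map_smul, hD.fix k.1 k.2]

theorem Comp.mid {s : ℕ} {D : V ≃ₗ[F] V} (hD : Comp Fr i s D) {v : V} (hv : v ∈ Mid Fr i) : D v ∈ Mid Fr i := by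
  intro k hk b
  rw [← hD.fix k hk b, hD.iso]
  exact hv k hk b

variable {s : ℕ} {D : V ≃ₗ[F] V} {z : Lˣ}

theorem t_eE (hD : Comp Fr i s D) (x : L) : (gl Fr β z * D) (eE Fr β x) = eE Fr β (z * x) := by
  change gl Fr β z (D (eE Fr β x)) = _
  rw [hD.eE, gl_eE]

theorem t_fF (hD : Comp Fr i s D) (l : Dual F L) :
    (gl Fr β z * D) (fF Fr β l) = fF Fr β (dl ((z⁻¹ : Lˣ) : L) l) := by
  change gl Fr β z (D (fF Fr β l)) = _
  rw [hD.fF, gl_fF]

theorem t_mid (hD : Comp Fr i s D) {v : V} (hv : v ∈ Mid Fr i) : (gl Fr β z * D) v = D v := by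
  change gl Fr β z (D v) = _
  exact gl_Mid z (hD.mid hv)

theorem t_aeval_eE (hD : Comp Fr i s D) (P : F[X]) (x : L) :
    aeval ((gl Fr β z * D : V ≃ₗ[F] V) : V →ₗ[F] V) P (eE Fr β x) = eE Fr β (aeval (z : L) P * x) := by
  have h1 := aeval_comm (eE Fr β) (LinearMap.mulLeft F (z : L)) ((gl Fr β z * D : V ≃ₗ[F] V) : V →ₗ[F] V) ⊤
    (fun _ _ => trivial) (fun v _ => (t_eE hD v).symm) P x trivial
  rw [← h1, aeval_mulLeft]

theorem t_aeval_fF (hD : Comp Fr i s D) (P : F[X]) (l : Dual F L) :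
    aeval ((gl Fr β z * D : V ≃ₗ[F] V) : V →ₗ[F] V) P (fF Fr β l) =
      fF Fr β (dl (aeval ((z⁻¹ : Lˣ) : L) P) l) := by
  have h1 := aeval_comm (fF Fr β) (dlL ((z⁻¹ : Lˣ) : L)) ((gl Fr β z * D : V ≃ₗ[F] V) : V →ₗ[F] V) ⊤
    (fun _ _ => trivial) (fun v _ => (t_fF hD v).symm) P l trivial
  rw [← h1, aeval_dlL]

theorem pow_mid (hD : Comp Fr i s D) : ∀ (j : ℕ), ∀ v ∈ Mid Fr i, ((gl Fr β z * D) ^ j) v = (D ^ j) v ∧ (D ^ j) v ∈ Mid Fr i := by
  intro j
  induction j with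
  | zero => exact fun v hv => ⟨rfl, hv⟩
  | succ j ih =>
    intro v hv
    have e1 : ((gl Fr β z * D) ^ (j + 1)) v = ((gl Fr β z * D) ^ j) ((gl Fr β z * D) v) := by rw [pow_succ]; rfl
    have e2 : (D ^ (j + 1)) v = (D ^ j) (D v) := by rw [pow_succ]; rfl
    rw [e1, e2, t_mid hD hv]
    exact ih _ (hD.mid hv)

theorem coe_pow (g : V ≃ₗ[F] V) (j : ℕ) (v : V) : ((g : V →ₗ[F] V) ^ j : Module.End F V) v = (g ^ j) v := by
  induction j generalizing v with
  | zero => rfl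
  | succ j ih =>
    have e1 : ((g : V →ₗ[F] V) ^ (j + 1) : Module.End F V) v = ((g : V →ₗ[F] V) ^ j : Module.End F V) (g v) := by
      rw [pow_succ]; rfl
    have e2 : (g ^ (j + 1)) v = (g ^ j) (g v) := by rw [pow_succ]; rfl
    rw [e1, e2, ih]

variable [Finite V] {W : Type*} [Group W] {cs : CoxeterSystem (CoxeterMatrix.B n) W} {p : ℕ} [Fact p.Prime]
  [CharP F p] (hA : AmbT Fr p M.I) {p0 : Fr.Adm} (hp0 : p0.c ≠ 0) (hn : 0 < n)

include hA hp0 hn

/-- **elliptic elements** -/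
theorem ell_gl (hD : Comp Fr i s D) (ht : gl Fr β z * D ∈ M.I) (hadj : Algebra.adjoin F {(z : L)} = ⊤)
    (hzs : (z : L) ^ s ≠ 1) (hzz : aeval (z : L) (minpoly F ((z⁻¹ : Lˣ) : L)) ≠ 0)
    (hiso : ∀ U : Submodule F V, U ≤ Mid Fr i → (∀ x ∈ U, ∀ y ∈ U, H.h x y = 0) → (∀ x ∈ U, D x ∈ U) → U = ⊥)
    (hnd : ∀ v ∈ Mid Fr i, (∀ w ∈ Mid Fr i, H.h v w = 0) → v = 0) :
    Ell cs (isCartan n) (WittModel.T M) (WittModel.X M) {i}ᶜ (M.φ ⟨gl Fr β z * D, ht⟩) := by
  refine ell_of hA hp0 hn ?_ ?_ ?_ ?_ ?_ ?_ hnd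
  · intro x hx
    obtain ⟨y, rfl⟩ := exists_eE β hx
    change (gl Fr β z * D) _ ∈ _
    rw [t_eE hD]
    exact eE_mem _
  · intro x hx
    obtain ⟨l, rfl⟩ := exists_fF β hx
    change (gl Fr β z * D) _ ∈ _
    rw [t_fF hD]
    exact fF_mem _
  · intro U hU hU0 hUt
    set U' : Submodule F L := U.comap (eE Fr β) with hU'
    have hz : ∀ x ∈ U', (z : L) * x ∈ U' := fun x hx => by
      change eE Fr β (z * x) ∈ U
      rw [← t_eE hD]
      exact hUt _ hx
    let A : Subalgebra F L :=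
      { carrier := {a | ∀ x ∈ U', a * x ∈ U'}
        mul_mem' := fun ha hb x hx => by rw [mul_assoc]; exact ha _ (hb _ hx)
        add_mem' := fun ha hb x hx => by rw [add_mul]; exact Submodule.add_mem _ (ha _ hx) (hb _ hx)
        algebraMap_mem' := fun c x hx => by rw [← Algebra.smul_def]; exact Submodule.smul_mem _ _ hx }
    have hA : A = ⊤ := by
      rw [eq_top_iff, ← hadj]
      exact Algebra.adjoin_le (by rintro _ rfl; exact hz)
    obtain ⟨v, hv, hv0⟩ := Submodule.exists_mem_ne_zero_of_ne_bot hU0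
    obtain ⟨x, rfl⟩ := exists_eE β (hU hv)
    have hx0 : x ≠ 0 := by rintro rfl; exact hv0 (map_zero _)
    apply le_antisymm hU
    intro w hw
    obtain ⟨y, rfl⟩ := exists_eE β hw
    have h1 : y * x⁻¹ ∈ A := by rw [hA]; trivial
    have h2 := h1 x hv
    rw [inv_mul_cancel_right₀ hx0] at h2
    exact h2
  · intro f hf hft v hv
    obtain ⟨x, hx⟩ := exists_eE β (hf v hv)
    have h1 := aeval_comm f ((gl Fr β z * D : V ≃ₗ[F] V) : V →ₗ[F] V) ((gl Fr β z * D : V ≃ₗ[F] V) : V →ₗ[F] V)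
      (Mid Fr i) (fun v hv => by change (gl Fr β z * D) v ∈ _; rw [t_mid hD hv]; exact hD.mid hv) hft
      (X ^ s - 1) v hv
    rw [← hx, t_aeval_eE hD] at h1
    have h2 : aeval ((gl Fr β z * D : V ≃ₗ[F] V) : V →ₗ[F] V) (X ^ s - 1 : F[X]) v = 0 := by
      rw [map_sub, map_pow, aeval_X, map_one, LinearMap.sub_apply, coe_pow, (pow_mid hD s v hv).1, hD.pow v hv]
      exact sub_self _
    rw [h2, map_zero] at h1
    have h3 : aeval (z : L) (X ^ s - 1 : F[X]) * x = 0 := eE_injective (by rw [← h1, map_zero])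
    rw [map_sub, map_pow, aeval_X, map_one] at h3
    rw [← hx, (mul_eq_zero.1 h3).resolve_left (sub_ne_zero.2 hzs), map_zero]
  · intro f hf hft v hv
    obtain ⟨l, rfl⟩ := exists_fF β hv
    obtain ⟨x, hx⟩ := exists_eE β (hf _ hv)
    have h1 := aeval_comm f ((gl Fr β z * D : V ≃ₗ[F] V) : V →ₗ[F] V) ((gl Fr β z * D : V ≃ₗ[F] V) : V →ₗ[F] V)
      (RS Fr (Ni i)) (fun v hv => by
        obtain ⟨l, rfl⟩ := exists_fF β hv
        change (gl Fr β z * D) _ ∈ _
        rw [t_fF hD]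
        exact fF_mem _) hft (minpoly F ((z⁻¹ : Lˣ) : L)) _ hv
    rw [← hx, t_aeval_eE hD, t_aeval_fF hD, minpoly.aeval] at h1
    have h2 : dl (0 : L) l = 0 := by
      ext y
      simp [dl]
    rw [h2, map_zero, map_zero] at h1
    have h3 : aeval (z : L) (minpoly F ((z⁻¹ : Lˣ) : L)) * x = 0 := eE_injective (by rw [← h1, map_zero])
    rw [← hx, (mul_eq_zero.1 h3).resolve_left hzz, map_zero]
  · intro U hU hUi hUt
    refine hiso U hU hUi fun x hx => ?_
    rw [← t_mid (β := β) (z := z) hD (hU hx)]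
    exact hUt x hx

omit hA hp0 hn [Finite V] [Fact p.Prime] [CharP F p] in
theorem phi_surjective (M : Model Fr K) (hn : 0 < n) : Function.Surjective M.φ := by
  rw [← MonoidHom.range_eq_top]
  refine M.gen ⟨0, hn⟩ _ (fun i j _ t => ⟨⟨_, rfl⟩, ⟨_, rfl⟩⟩) fun p => ⟨⟨_, rfl⟩, ⟨_, rfl⟩⟩

omit hp0 in
/-- **non-conjugate elements** -/
theorem not_isConj_gl (hσ : ∀ a, H.σ a = a) {D' : V ≃ₗ[F] V} {z' : Lˣ} {s' : ℕ} (hD : Comp Fr i s D)
    (hD' : Comp Fr i s' D') (ht : gl Fr β z * D ∈ M.I) (ht' : gl Fr β z' * D' ∈ M.I)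
    (h1 : ∀ c : F, c * c = 1 → aeval (algebraMap F L c * z') (minpoly F (z : L)) ≠ 0)
    (h2 : ∀ c : F, c * c = 1 → aeval (algebraMap F L c * z') (minpoly F ((z⁻¹ : Lˣ) : L)) ≠ 0)
    (h3 : ∀ c : F, c * c = 1 → (algebraMap F L c * z') ^ s ≠ 1) :
    ¬ IsConj (M.φ ⟨gl Fr β z * D, ht⟩) (M.φ ⟨gl Fr β z' * D', ht'⟩) := by
  intro hc
  obtain ⟨κ, hκ⟩ := isConj_iff.1 hc
  obtain ⟨k, rfl⟩ := phi_surjective M hn κ
  set g : M.I := ⟨gl Fr β z * D, ht⟩ with hg
  set g' : M.I := ⟨gl Fr β z' * D', ht'⟩ with hg'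
  have hz : M.φ ((k * g * k⁻¹)⁻¹ * g') = 1 := by
    rw [map_mul, map_inv, map_mul, map_mul, map_inv, hκ, inv_mul_cancel]
  obtain ⟨c, hc⟩ := exists_scalar (g := ((((k * g * k⁻¹)⁻¹ * g' : M.I).1 : V ≃ₗ[F] V) : V →ₗ[F] V))
    fun v => M.ker v _ hz
  have hc' : ∀ v, ((k * g * k⁻¹)⁻¹ * g' : M.I).1 v = c • v := hc
  have hcc : c * c = 1 := by
    have h4 := hA.iso _ ((k * g * k⁻¹)⁻¹ * g' : M.I).2 (Fr.b (i, true)) (Fr.b (i, false))
    rw [hc', hc', H.smul_left, H.smul_right, hσ, Fr.hb] at h4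
    simpa using h4
  -- `g' k = c k g`
  have h5 : ∀ v, g'.1 (k.1 v) = c • k.1 (g.1 v) := fun v => by
    have h6 : g'.1 (k.1 v) = (k * g * k⁻¹ : M.I).1 (((k * g * k⁻¹)⁻¹ * g' : M.I).1 (k.1 v)) := by
      change _ = (k * g * k⁻¹ : M.I).1 ((k * g * k⁻¹ : M.I).1⁻¹ (g'.1 (k.1 v)))
      exact ((k * g * k⁻¹ : M.I).1.apply_symm_apply _).symm
    rw [h6, hc', map_smul]
    congr 1
    change k.1 (g.1 (k.1⁻¹ (k.1 v))) = _
    rw [show k.1⁻¹ (k.1 v) = v from k.1.symm_apply_apply v]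
  set P : F[X] := minpoly F (z : L) * minpoly F ((z⁻¹ : Lˣ) : L) * (X ^ s - 1) with hP
  have ez : aeval (z : L) P = 0 := by rw [hP, map_mul, map_mul, minpoly.aeval, zero_mul, zero_mul]
  have ez' : aeval ((z⁻¹ : Lˣ) : L) P = 0 := by
    rw [hP, map_mul, map_mul, minpoly.aeval F ((z⁻¹ : Lˣ) : L), mul_zero, zero_mul]
  -- `P` kills `g`
  have hPg : ∀ v, aeval ((g.1 : V ≃ₗ[F] V) : V →ₗ[F] V) P v = 0 := by
    intro v
    obtain ⟨x, hx, y, hy, w, hw, rfl⟩ := exists_decomp (Fr := Fr) i v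
    obtain ⟨x, rfl⟩ := exists_eE β hx
    obtain ⟨l, rfl⟩ := exists_fF β hy
    rw [map_add, map_add]
    have e1 : aeval ((g.1 : V ≃ₗ[F] V) : V →ₗ[F] V) P (eE Fr β x) = 0 := by
      change aeval ((gl Fr β z * D : V ≃ₗ[F] V) : V →ₗ[F] V) P (eE Fr β x) = 0
      rw [t_aeval_eE hD, ez, zero_mul, map_zero]
    have e2 : aeval ((g.1 : V ≃ₗ[F] V) : V →ₗ[F] V) P (fF Fr β l) = 0 := by
      change aeval ((gl Fr β z * D : V ≃ₗ[F] V) : V →ₗ[F] V) P (fF Fr β l) = 0
      rw [t_aeval_fF hD, ez']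
      have h2 : dl (0 : L) l = 0 := by
        ext y
        simp [dl]
      rw [h2, map_zero]
    have e3 : aeval ((g.1 : V ≃ₗ[F] V) : V →ₗ[F] V) P w = 0 := by
      rw [hP, map_mul, Module.End.mul_apply]
      have h4 : aeval ((g.1 : V ≃ₗ[F] V) : V →ₗ[F] V) (X ^ s - 1 : F[X]) w = 0 := by
        rw [map_sub, map_pow, aeval_X, map_one, LinearMap.sub_apply, coe_pow]
        change ((gl Fr β z * D) ^ s) w - w = 0
        rw [(pow_mid hD s w hw).1, hD.pow w hw]
        exact sub_self _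
      rw [h4, map_zero]
    rw [e1, e2, e3, add_zero, add_zero]
  -- `P` kills `c g'`
  have h7 := aeval_comm (k.1 : V →ₗ[F] V) ((g.1 : V ≃ₗ[F] V) : V →ₗ[F] V) (c • ((g'.1 : V ≃ₗ[F] V) : V →ₗ[F] V)) ⊤
    (fun _ _ => trivial) (fun v _ => by
      change k.1 (g.1 v) = c • g'.1 (k.1 v)
      rw [h5, smul_smul, hcc, one_smul]) P (k.1⁻¹ (eE Fr β 1)) trivial
  rw [hPg, map_zero] at h7
  have h8 : (k.1 : V →ₗ[F] V) (k.1⁻¹ (eE Fr β 1)) = eE Fr β 1 := k.1.apply_symm_apply _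
  rw [h8] at h7
  have h9 := aeval_comm (eE Fr β) (LinearMap.mulLeft F (algebraMap F L c * z')) (c • ((g'.1 : V ≃ₗ[F] V) : V →ₗ[F] V)) ⊤
    (fun _ _ => trivial) (fun v _ => by
      change eE Fr β (algebraMap F L c * z' * v) = c • (gl Fr β z' * D') (eE Fr β v)
      rw [t_eE hD', mul_assoc, ← Algebra.smul_def, map_smul]) P 1 trivial
  rw [← h7, aeval_mulLeft, mul_one] at h9
  have h10 : aeval (algebraMap F L c * z') P = 0 := eE_injective (by rw [h9, map_zero])
  rw [hP, map_mul, map_mul, map_sub, map_pow, aeval_X, map_one] at h10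
  rcases mul_eq_zero.1 h10 with h10 | h10
  · rcases mul_eq_zero.1 h10 with h10 | h10
    · exact h1 c hcc h10
    · exact h2 c hcc h10
  · exact h3 c hcc (sub_eq_zero.1 h10)

end Model

end Cfsg.Agent.H410.OZ
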